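import Cfsg.Agent.Lib.CharDeep.DetExt
import Cfsg.Agent.Lib.Char.Induced
import Cfsg.Agent.Lib.Char.Constituent

/-!
# Field automorphisms applied to characters, and canonical extensions

An irreducible character composed with an automorphism of `ℂ` is irreducible, with the same
determinantal order.  A character invariant in a group in which the index is prime to the order of
the normal subgroup has exactly one extension of determinantal order prime to the index.
-/

set_option autoImplicit false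

namespace CfsgLib.CharDeep.Galois

open Module CfsgLib
open scoped ComplexConjugate

variable {G : Type*} [Group G]

/-- The representation obtained by applying a field endomorphism to the matrix entries. -/
noncomputable def mapRep {n : ℕ} (σ : ℂ →+* ℂ) (ρ : Representation ℂ G (Fin n → ℂ)) :
    Representation ℂ G (Fin n → ℂ) where
  toFun g := Matrix.toLin' ((LinearMap.toMatrix' (ρ g)).map σ)
  map_one' := by
    rw [map_one, Module.End.one_eq_id, LinearMap.toMatrix'_id,
      Matrix.map_one σ (map_zero σ) (map_one σ), Matrix.toLin'_one]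
  map_mul' a b := by
    rw [map_mul, LinearMap.toMatrix'_mul, Matrix.map_mul, Matrix.toLin'_mul]
    rfl

theorem trace_mapRep {n : ℕ} (σ : ℂ →+* ℂ) (ρ : Representation ℂ G (Fin n → ℂ)) (g : G) :
    (mapRep σ ρ).character g = σ (ρ.character g) := by
  show LinearMap.trace ℂ _ (Matrix.toLin' ((LinearMap.toMatrix' (ρ g)).map σ)) =
    σ (LinearMap.trace ℂ _ (ρ g))
  rw [Matrix.trace_toLin'_eq, ← AddMonoidHom.map_trace]
  congr 1
  rw [← Matrix.trace_toLin'_eq, Matrix.toLin'_toMatrix']

theorem det_mapRep {n : ℕ} (σ : ℂ →+* ℂ) (ρ : Representation ℂ G (Fin n → ℂ)) (g : G) :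
    LinearMap.det (mapRep σ ρ g) = σ (LinearMap.det (ρ g)) := by
  show LinearMap.det (Matrix.toLin' ((LinearMap.toMatrix' (ρ g)).map σ)) = _
  rw [LinearMap.det_toLin', ← RingHom.mapMatrix_apply, ← RingHom.map_det, LinearMap.det_toMatrix']

variable [Finite G]

/-- The determinantal character, computed with any representation. -/
theorem detChar_of_rep {W : Type*} [AddCommGroup W] [Module ℂ W] [FiniteDimensional ℂ W]
    (ρ : Representation ℂ G W) (χ : G → ℂ) (hχ : Cfsg.IsCharacter G χ)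
    (h : ρ.character = χ) : Cfsg.detChar χ = fun g => LinearMap.det (ρ g) := by
  haveI := Fintype.ofFinite G
  unfold Cfsg.detChar
  rw [dif_pos hχ]
  have hspec := Classical.choose_spec (Classical.choose_spec hχ)
  obtain ⟨φ⟩ := Char.nonempty_equiv_of_char_eq ρ
    (Classical.choose (Classical.choose_spec hχ)) (h.trans hspec.symm)
  funext g
  rw [← LinearMap.det_conj (ρ g) φ.toLinearEquiv]
  congr 1
  refine LinearMap.ext fun v => ?_
  have h1 := LinearMap.congr_fun (φ.toIntertwiningMap.isIntertwining' g) (φ.toLinearEquiv.symm v)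
  simp only [LinearMap.coe_comp, LinearEquiv.coe_coe, Function.comp_apply]
  refine Eq.trans ?_ h1.symm
  show _ = (Classical.choose (Classical.choose_spec hχ)) g
    (φ.toLinearEquiv (φ.toLinearEquiv.symm v))
  rw [LinearEquiv.apply_symm_apply]

theorem isIrrCharacter_map (σ : ℂ →+* ℂ) {χ : G → ℂ} (hχ : Cfsg.IsIrrCharacter G χ) :
    Cfsg.IsIrrCharacter G (σ ∘ χ) := by
  haveI := Fintype.ofFinite G
  obtain ⟨n, ρ, hρ, rfl⟩ := id hχ
  have hc : Cfsg.IsCharacter G (σ ∘ ρ.character) :=
    ⟨n, mapRep σ ρ, funext fun g => trace_mapRep σ ρ g⟩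
  refine Char.IsCharacter.isIrrCharacter_of_norm_one hc ?_
  have h := congrArg σ (Char.classInner_irr_self hχ)
  rw [Cfsg.classInner, map_mul, map_inv₀, map_natCast, map_sum, map_one] at h
  rw [Cfsg.classInner, ← h]
  congr 1
  refine Finset.sum_congr rfl fun g _ => ?_
  rw [map_mul, Function.comp_apply, ← Char.IsIrrCharacter.apply_inv hχ g,
    show conj (σ (ρ.character g)) = σ (ρ.character g⁻¹) from ?_]
  exact ((Char.IsCharacter.apply_inv hc g).symm :)

theorem detOrder_map (σ : ℂ →+* ℂ) {χ : G → ℂ} (hχ : Cfsg.IsIrrCharacter G χ) :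
    Cfsg.detOrder (σ ∘ χ) = Cfsg.detOrder χ := by
  obtain ⟨n, ρ, hρ, rfl⟩ := id hχ
  unfold Cfsg.detOrder
  rw [detChar_of_rep (mapRep σ ρ) _ (Char.IsIrrCharacter.isCharacter (isIrrCharacter_map σ hχ))
      (funext fun g => trace_mapRep σ ρ g),
    detChar_of_rep ρ _ (Char.IsIrrCharacter.isCharacter hχ) rfl]
  refine orderOf_eq_orderOf_iff.mpr fun k => ?_
  simp only [funext_iff, Pi.pow_apply, Pi.one_apply, det_mapRep, ← map_pow]
  exact forall_congr' fun g => map_eq_one_iff σ σ.injective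

theorem detOrder_eq_orderOf {W : Type*} [AddCommGroup W] [Module ℂ W] [FiniteDimensional ℂ W]
    (ρ : Representation ℂ G W) (χ : G → ℂ) (hχ : Cfsg.IsCharacter G χ) (h : ρ.character = χ) :
    Cfsg.detOrder χ = orderOf (DetExt.detHom ρ) := by
  unfold Cfsg.detOrder
  rw [detChar_of_rep ρ χ hχ h]
  exact IrrTools.orderOf_coe_hom (DetExt.detHom ρ)

/-! ### Canonical extensions -/

variable [Fintype G] {N : Subgroup G} [hN : N.Normal] [Fintype N]

theorem degree_coprime_index (hcop : N.index.Coprime (Nat.card N)) {θ : N → ℂ}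
    (hθ : Cfsg.IsIrrCharacter N θ) {d : ℕ} (hd : θ 1 = d) : N.index.Coprime d := by
  obtain ⟨k, hk, hdvd⟩ := Char.IsIrrCharacter.apply_one_dvd_card hθ
  rw [hd, Nat.cast_inj] at hk
  exact hcop.of_dvd_right (hk ▸ hdvd)

/-- An invariant character has an extension of determinantal order prime to the index. -/
theorem exists_canonical (hcop : N.index.Coprime (Nat.card N)) {θ : N → ℂ}
    (hθ : Cfsg.IsIrrCharacter N θ)
    (hinv : ∀ (g : G) (n : N), θ ⟨g * n * g⁻¹, hN.conj_mem n n.2 g⟩ = θ n) :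
    ∃ χ : G → ℂ, Cfsg.IsIrrCharacter G χ ∧ (∀ n : N, χ n = θ n) ∧
      (Cfsg.detOrder χ).Coprime N.index := by
  obtain ⟨d, ρ, hρ, rfl⟩ := id hθ
  haveI := hρ
  have hρinv : ProjExt.Invariant ρ := fun g n => by
    rw [show MulAut.conjNormal g n = (⟨g * n * g⁻¹, hN.conj_mem n n.2 g⟩ : N) from
      Subtype.ext (MulAut.conjNormal_apply g n)]
    exact hinv g n
  -- the extension of the determinant
  obtain ⟨a, ha1, ha2⟩ : ∃ a : ℕ, (N.index * a ≡ 1 [MOD Nat.card N]) ∧ True := by
    refine ⟨N.index ^ ((Nat.card N).totient - 1), ?_, trivial⟩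
    rw [← pow_succ', Nat.sub_add_cancel (Nat.totient_pos.mpr Nat.card_pos)]
    exact Nat.ModEq.pow_totient hcop
  have hdinv : ∀ (g : G) (n : N),
      DetExt.detHom ρ ⟨g * n * g⁻¹, hN.conj_mem n n.2 g⟩ = DetExt.detHom ρ n := by
    intro g n
    have h := detChar_of_rep ρ _ (Char.IsIrrCharacter.isCharacter hθ) rfl
    obtain ⟨γ, hγ⟩ := ProjExt.exists_lift ρ g (hρinv g)
    have h1 := congrArg LinearMap.det (ProjExt.lin_mul ρ γ n)
    rw [map_mul, map_mul, ProjExt.det_lin, one_mul, mul_one] at h1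
    apply Units.ext
    rw [DetExt.coe_detHom, DetExt.coe_detHom, h1]
    congr 2
    exact Subtype.ext (by rw [MulAut.conjNormal_apply, hγ])
  haveI : N.FiniteIndex := Subgroup.finiteIndex_of_finite
  let T : G →* ℂˣ := MonoidHom.transfer (DetExt.detHom ρ)
  have hT : ∀ n : N, T n = DetExt.detHom ρ n ^ N.index := fun n =>
    CentralExt.transfer_eq_pow_index le_rfl (DetExt.detHom ρ) hdinv (DetExt.detHom ρ)
      (fun _ _ => rfl) n
  have hNo : ∀ n : N, DetExt.detHom ρ n ^ Nat.card N = 1 := fun n => by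
    rw [← map_pow, pow_card_eq_one', map_one]
  obtain ⟨b, hb1, hb2⟩ : ∃ b : ℕ, b ≡ 1 [MOD Nat.card N] ∧ b ≡ 0 [MOD N.index] := by
    obtain ⟨b, hb⟩ := Nat.chineseRemainder hcop.symm 1 0
    exact ⟨b, hb⟩
  let μ : G →* ℂˣ := (powMonoidHom (a * b)).comp T
  have hμ : ∀ n : N, μ n = DetExt.detHom ρ n := fun n => by
    show T n ^ (a * b) = _
    rw [hT, ← pow_mul, ← mul_assoc]
    conv_rhs => rw [← pow_one (DetExt.detHom ρ n)]
    refine pow_eq_pow_iff_modEq.mpr ?_
    refine Nat.ModEq.of_dvd (orderOf_dvd_of_pow_eq_one (hNo n)) ?_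
    simpa using ha1.mul hb1
  have hμo : μ ^ Nat.card N = 1 := MonoidHom.ext fun g => by
    show (T g ^ (a * b)) ^ Nat.card N = 1
    obtain ⟨c, hc⟩ := Nat.modEq_zero_iff_dvd.mp hb2
    rw [← pow_mul, ← map_pow, show g ^ (a * b * Nat.card N) = 1 from ?_, map_one]
    apply orderOf_dvd_iff_pow_eq_one.mp
    refine orderOf_dvd_natCard g |>.trans ⟨a * c, ?_⟩
    rw [← N.card_mul_index, hc]
    ring
  have hfin : N.index.Coprime (finrank ℂ (Fin d → ℂ)) :=
    degree_coprime_index hcop hθ (by rw [Representation.char_one])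
  obtain ⟨σ, hσ, hσdet⟩ := DetExt.exists_extension_det ρ hρinv hfin μ hμ
  haveI := DetExt.isIrreducible_of_extends ρ σ hσ
  have hirr : Cfsg.IsIrrCharacter G σ.character := IrrTools.isIrrCharacter_character σ
  refine ⟨σ.character, hirr, fun n => congrArg (LinearMap.trace ℂ _) (hσ n), ?_⟩
  rw [detOrder_eq_orderOf σ _ (Char.IsIrrCharacter.isCharacter hirr) rfl, hσdet]
  exact hcop.symm.of_dvd_left (orderOf_dvd_of_pow_eq_one hμo)

/-- The canonical extension is unique. -/
theorem canonical_unique (hcop : N.index.Coprime (Nat.card N)) {χ χ' : G → ℂ}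
    (hχ : Cfsg.IsIrrCharacter G χ) (hχ' : Cfsg.IsIrrCharacter G χ') {θ : N → ℂ}
    (hθ : Cfsg.IsIrrCharacter N θ) (h : ∀ n : N, χ n = θ n) (h' : ∀ n : N, χ' n = θ n)
    (hd : (Cfsg.detOrder χ).Coprime N.index) (hd' : (Cfsg.detOrder χ').Coprime N.index) :
    χ = χ' := by
  obtain ⟨k, σ, hσ, rfl⟩ := id hχ
  obtain ⟨k', σ', hσ', rfl⟩ := id hχ'
  obtain ⟨d, hdd⟩ := Char.IsCharacter.apply_one_eq (Char.IsIrrCharacter.isCharacter hθ)
  obtain ⟨j, π, hπ, hπθ⟩ := id hθ
  let ρ : Representation ℂ N (Fin k → ℂ) := σ.comp N.subtype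
  have hρchar : ρ.character = θ := funext h
  obtain ⟨e⟩ := Char.nonempty_equiv_of_char_eq π ρ (hπθ.trans hρchar.symm)
  haveI := hπ
  haveI : ρ.IsIrreducible := Char.isIrreducible_of_equiv e
  have hfin : N.index.Coprime (finrank ℂ (Fin k → ℂ)) := by
    refine degree_coprime_index hcop hθ (d := finrank ℂ (Fin k → ℂ)) ?_
    rw [← hρchar, Representation.char_one]
  rw [detOrder_eq_orderOf σ _ (Char.IsIrrCharacter.isCharacter hχ) rfl] at hd
  rw [detOrder_eq_orderOf σ' _ (Char.IsIrrCharacter.isCharacter hχ') rfl] at hd'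
  have hdet : DetExt.detHom σ' = DetExt.detHom σ := by
    set u := DetExt.detHom σ
    set u' := DetExt.detHom σ'
    have hN1 : ∀ n : N, (u' * u⁻¹) n = 1 := fun n => by
      show u' n * (u n)⁻¹ = 1
      rw [mul_inv_eq_one]
      apply Units.ext
      rw [DetExt.coe_detHom, DetExt.coe_detHom]
      have e1 := detChar_of_rep (σ'.comp N.subtype) θ (Char.IsIrrCharacter.isCharacter hθ) (funext h')
      have e2 := detChar_of_rep ρ θ (Char.IsIrrCharacter.isCharacter hθ) hρchar
      exact congrFun (e1.symm.trans e2) n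
    refine MonoidHom.ext fun g => mul_inv_eq_one.mp ?_
    have e1 : u g ^ orderOf u = 1 := DFunLike.congr_fun (pow_orderOf_eq_one u) g
    have e2 : u' g ^ orderOf u' = 1 := DFunLike.congr_fun (pow_orderOf_eq_one u') g
    have h1 : (u' g * (u g)⁻¹) ^ N.index = 1 := DetExt.pow_index_eq_one (u' * u⁻¹) hN1 g
    have h2 : (u' g * (u g)⁻¹) ^ (orderOf u' * orderOf u) = 1 := by
      rw [mul_pow, inv_pow, pow_mul, e2, one_pow, mul_comm (orderOf u'), pow_mul, e1, one_pow,
        inv_one, mul_one]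
    exact orderOf_eq_one_iff.mp (Nat.eq_one_of_dvd_coprimes (Nat.Coprime.mul_left hd' hd)
      (orderOf_dvd_of_pow_eq_one h2) (orderOf_dvd_of_pow_eq_one h1))
  have hres : ∀ n : N, σ n = ρ n := fun n => rfl
  have hres' : ∀ n : N, σ'.character n = ρ.character n := fun n =>
    (h' n).trans (congrFun hρchar n).symm
  exact (DetExt.character_eq_of_det_eq (N := N) ρ hfin σ hres σ' hres' hdet).symm

end CfsgLib.CharDeep.Galois
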