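import Mathlib.FieldTheory.IsAlgClosed.Classification
import Mathlib.NumberTheory.Cyclotomic.PrimitiveRoots
import Mathlib.RingTheory.RootsOfUnity.Complex
import Mathlib.Analysis.Complex.Cardinality
import Mathlib.Analysis.Complex.Polynomial.Basic
import Mathlib.RingTheory.Algebraic.Cardinality

/-!
# Automorphisms of the complex field moving roots of unity
-/

set_option autoImplicit false

namespace CfsgLib.CharDeep.Galois

open Cardinal

/-- An isomorphism over a base field between algebraically closed fields with equipotent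
transcendence bases, compatible with the base. -/
theorem exists_equiv_over {F K L : Type} [Field F] [Field K] [Field L] [Algebra F K] [Algebra F L]
    [IsAlgClosed K] [IsAlgClosed L] {ι κ : Type} {v : ι → K} {w : κ → L} (e : ι ≃ κ)
    (hv : IsTranscendenceBasis F v) (hw : IsTranscendenceBasis F w) :
    ∃ σ : K ≃+* L, ∀ x : F, σ (algebraMap F K x) = algebraMap F L x := by
  letI := IsAlgClosed.isAlgClosure_of_transcendence_basis v hv
  letI := IsAlgClosed.isAlgClosure_of_transcendence_basis w hw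
  let E : Algebra.adjoin F (Set.range v) ≃ₐ[F] Algebra.adjoin F (Set.range w) :=
    hv.1.aevalEquiv.symm.trans ((MvPolynomial.renameEquiv F e).trans hw.1.aevalEquiv)
  refine ⟨IsAlgClosure.equivOfEquiv K L E.toRingEquiv, fun x => ?_⟩
  rw [IsScalarTower.algebraMap_apply F (Algebra.adjoin F (Set.range v)) K,
    IsAlgClosure.equivOfEquiv_algebraMap]
  show algebraMap (Algebra.adjoin F (Set.range w)) L (E (algebraMap F _ x)) = _
  rw [E.commutes, ← IsScalarTower.algebraMap_apply]

/-- An isomorphism between two embeddings of a countable field extends to the complex field. -/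
theorem exists_extend {F : Type} [Field F] (hF : #F ≤ ℵ₀) (f g : F →+* ℂ) :
    ∃ σ : ℂ ≃+* ℂ, ∀ x, σ (f x) = g x := by
  have hC : ℵ₀ < #ℂ := by rw [Cardinal.mk_complex]; exact Cardinal.aleph0_lt_continuum
  obtain ⟨s, hs⟩ : ∃ s : Set ℂ, @IsTranscendenceBasis s F ℂ _ _ f.toAlgebra Subtype.val := by
    letI := f.toAlgebra
    exact exists_isTranscendenceBasis F ℂ
  obtain ⟨t, ht⟩ : ∃ t : Set ℂ, @IsTranscendenceBasis t F ℂ _ _ g.toAlgebra Subtype.val := by
    letI := g.toAlgebra
    exact exists_isTranscendenceBasis F ℂ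
  have h1 : #ℂ = #s := @IsAlgClosed.cardinal_eq_cardinal_transcendence_basis_of_aleph0_lt' F _ ℂ _
    f.toAlgebra _ _ _ _ hs hF hC
  have h2 : #ℂ = #t := @IsAlgClosed.cardinal_eq_cardinal_transcendence_basis_of_aleph0_lt' F _ ℂ _
    g.toAlgebra _ _ _ _ ht hF hC
  obtain ⟨e⟩ := Cardinal.eq.mp (h1.symm.trans h2)
  exact @exists_equiv_over F ℂ ℂ _ _ _ f.toAlgebra g.toAlgebra _ _ _ _ _ _ e hs ht

/-- Primitive roots of unity of the same order are conjugate under automorphisms of `ℂ`. -/
theorem exists_ringEquiv_primitive {n : ℕ} (hn : n ≠ 0) {ω ω' : ℂ} (hω : IsPrimitiveRoot ω n)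
    (hω' : IsPrimitiveRoot ω' n) : ∃ σ : ℂ ≃+* ℂ, σ ω = ω' := by
  haveI : NeZero n := ⟨hn⟩
  haveI : IsCyclotomicExtension {n} ℚ (CyclotomicField n ℚ) :=
    CyclotomicField.isCyclotomicExtension n ℚ
  haveI : FiniteDimensional ℚ (CyclotomicField n ℚ) :=
    IsCyclotomicExtension.finiteDimensional {n} ℚ (CyclotomicField n ℚ)
  have hz := IsCyclotomicExtension.zeta_spec n ℚ (CyclotomicField n ℚ)
  let e := hz.embeddingsEquivPrimitiveRoots (C := ℂ)
    (Polynomial.cyclotomic.irreducible_rat (Nat.pos_of_ne_zero hn))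
  have hmem : ∀ {r : ℂ}, IsPrimitiveRoot r n → r ∈ primitiveRoots n ℂ := fun h =>
    (mem_primitiveRoots (Nat.pos_of_ne_zero hn)).mpr h
  obtain ⟨f, hf⟩ := e.surjective ⟨ω, hmem hω⟩
  obtain ⟨g, hg⟩ := e.surjective ⟨ω', hmem hω'⟩
  have hF : #(CyclotomicField n ℚ) ≤ ℵ₀ :=
    (Algebra.IsAlgebraic.cardinalMk_le_max ℚ (CyclotomicField n ℚ)).trans (by simp)
  obtain ⟨σ, hσ⟩ := exists_extend hF f.toRingHom g.toRingHom
  refine ⟨σ, ?_⟩
  have h := hσ (IsCyclotomicExtension.zeta n ℚ (CyclotomicField n ℚ))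
  have hf' := congrArg Subtype.val hf
  have hg' := congrArg Subtype.val hg
  simp only [e, IsPrimitiveRoot.embeddingsEquivPrimitiveRoots_apply_coe] at hf' hg'
  rw [show f.toRingHom (IsCyclotomicExtension.zeta n ℚ (CyclotomicField n ℚ)) = ω from hf',
    show g.toRingHom (IsCyclotomicExtension.zeta n ℚ (CyclotomicField n ℚ)) = ω' from hg'] at h
  exact h

end CfsgLib.CharDeep.Galois
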