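import Cfsg.Agent.Lib.Char.Monomial
import Cfsg.Agent.Lib.CharDeep.Clifford
import Cfsg.Agent.Lib.CharDeep.ProjExt
import Cfsg.Agent.Lib.Blocks.ExtTwist
import Cfsg.Agent.Lib.Blocks.RealBlocks
import Cfsg.Agent.Lib.Blocks.Parts
import Mathlib.GroupTheory.IndexNormal

/-!
# Characters fixed by a power map over a fixed character of a normal subgroup of odd index
-/

set_option autoImplicit false
set_option maxHeartbeats 800000

namespace CfsgLib.CharDeep.Galois.OddFixed

open Cfsg CfsgLib CfsgLib.Char CfsgLib.CharDeep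
open scoped Classical ComplexConjugate

universe u

variable {G : Type u} [Group G] [Fintype G] (N : Subgroup G) [hN : N.Normal] [Fintype N]

/-- The irreducible characters over `θ`. -/
noncomputable def lying (θ : IrrCharacter N) : Finset (IrrCharacter G) :=
  Finset.univ.filter fun χ => classInner (fun n : N => (χ : G → ℂ) n) (θ : N → ℂ) ≠ 0

theorem mem_lying {θ : IrrCharacter N} {χ : IrrCharacter G} :
    χ ∈ lying N θ ↔ classInner (fun n : N => (χ : G → ℂ) n) (θ : N → ℂ) ≠ 0 := by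
  simp [lying]

theorem resc (χ : IrrCharacter G) : IsCharacter N fun n : N => (χ : G → ℂ) n :=
  IsCharacter.restrict (isCharacter_irr χ) N

/-- Multiplying by a character of the quotient does not leave the characters over `θ`. -/
theorem orth_mul_irr {θ : IrrCharacter N} {χ η : IrrCharacter G} (hχ : χ ∈ lying N θ)
    (hη : η ∉ lying N θ) [Fintype (G ⧸ N)] (μ : IrrCharacter (G ⧸ N)) :
    classInner (fun x : G => (μ : G ⧸ N → ℂ) (x : G ⧸ N) * (χ : G → ℂ) x) (η : G → ℂ) = 0 := by
  by_contra hne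
  set F : G → ℂ := fun x : G => (μ : G ⧸ N → ℂ) (x : G ⧸ N) * (χ : G → ℂ) x with hF
  have hμc : IsCharacter G fun x : G => (μ : G ⧸ N → ℂ) (x : G ⧸ N) :=
    IsCharacter.comp (isCharacter_irr μ) (QuotientGroup.mk' N)
  have hFc : IsCharacter G F := IsCharacter.mul hμc (isCharacter_irr χ)
  have hrest := IsCharacter.restrict (Clifford.isCharacter_sub_of_constituent hFc η.2 hne) N
  have hval : (fun n : N => F n) = ((μ : G ⧸ N → ℂ) 1) • fun n : N => (χ : G → ℂ) n :=
    funext fun n => by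
      show (μ : G ⧸ N → ℂ) ((n : G) : G ⧸ N) * _ = _ * _
      rw [(QuotientGroup.eq_one_iff (n : G)).2 n.2]
  obtain ⟨φ, hφ, -⟩ := Clifford.exists_constituent (IsCharacter.isClassFunction (resc N η))
    (ψ := fun n : N => (η : G → ℂ) n) fun e => by
      have h0 := congrFun (classInner_self_eq_zero.1 e) 1
      exact IsIrrCharacter.apply_one_ne_zero η.2 h0
  have hχφ : classInner (fun n : N => (χ : G → ℂ) n) (φ : N → ℂ) ≠ 0 := by
    intro h0
    have h1 : classInner (fun n : N => F n) (φ : N → ℂ) = 0 := by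
      rw [hval, classInner_smul_left, h0, mul_zero]
    obtain ⟨a, ha⟩ := IsCharacter.classInner_nat (resc N η) (isCharacter_irr φ)
    obtain ⟨b, hb⟩ := IsCharacter.classInner_nat hrest (isCharacter_irr φ)
    rw [show (fun n : N => F n) = (fun n : N => (η : G → ℂ) n) + fun n : N => (F - (η : G → ℂ)) n
      from funext fun n => by simp, classInner_add_left, ha, hb, ← Nat.cast_add, Nat.cast_eq_zero,
      Nat.add_eq_zero_iff] at h1
    exact hφ (ha.trans (by rw [h1.1, Nat.cast_zero]))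
  obtain ⟨g, hg⟩ := Clifford.exists_conj_of_constituent N χ.2 θ.2 φ.2 ((mem_lying N).1 hχ) hχφ
  refine hη ((mem_lying N).2 ?_)
  rw [← Clifford.classInner_restrict_conjFun N g (IsIrrCharacter.isClassFunction η.2), ← hg]
  exact hφ

theorem orth_mul {θ : IrrCharacter N} {χ η : IrrCharacter G} (hχ : χ ∈ lying N θ)
    (hη : η ∉ lying N θ) [Fintype (G ⧸ N)] {f : G ⧸ N → ℂ} (hf : IsClassFunction (G ⧸ N) f) :
    classInner (fun x : G => f (x : G ⧸ N) * (χ : G → ℂ) x) (η : G → ℂ) = 0 := by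
  rw [show (fun x : G => f (x : G ⧸ N) * (χ : G → ℂ) x) = ∑ μ : IrrCharacter (G ⧸ N),
      classInner f (μ : G ⧸ N → ℂ) • fun x : G => (μ : G ⧸ N → ℂ) (x : G ⧸ N) * (χ : G → ℂ) x from ?_,
    classInner_sum_left]
  · refine Finset.sum_eq_zero fun μ _ => ?_
    rw [classInner_smul_left, orth_mul_irr N hχ hη μ, mul_zero]
  · funext x
    conv_lhs => rw [IsClassFunction.eq_sum_irr hf]
    simp [Finset.sum_mul, mul_assoc]

/-- The kernel of the projection to the characters over `θ` respects the classes of the quotient. -/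
theorem kernel_eq_zero (θ : IrrCharacter N) {g h : G} (hgh : ¬ IsConj (g : G ⧸ N) (h : G ⧸ N)) :
    ∑ χ ∈ lying N θ, (χ : G → ℂ) g * conj ((χ : G → ℂ) h) = 0 := by
  letI : Fintype (G ⧸ N) := Fintype.ofFinite _
  set f : G ⧸ N → ℂ := fun q => if IsConj q (h : G ⧸ N) then 1 else 0 with hfdef
  have hf : IsClassFunction (G ⧸ N) f := fun x y => by
    have hxy : IsConj x (y * x * y⁻¹) := isConj_iff.mpr ⟨y, rfl⟩
    exact if_congr ⟨hxy.trans, hxy.symm.trans⟩ rfl rfl
  have hfr : ∀ q, conj (f q) = f q := fun q => by simp only [hfdef]; split_ifs <;> simp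
  set V := lying N θ
  let P : G → ℂ := fun x => ∑ χ ∈ V, (χ : G → ℂ) x * conj ((χ : G → ℂ) h)
  let fP : G → ℂ := fun x : G => f (x : G ⧸ N) * P x
  have hPcl : IsClassFunction G P := fun x y => Finset.sum_congr rfl fun χ _ => by
    rw [IsIrrCharacter.isClassFunction χ.2 x y]
  have hfPcl : IsClassFunction G fP := fun x y => by
    show f ((y * x * y⁻¹ : G) : G ⧸ N) * P _ = _
    rw [QuotientGroup.mk_mul, QuotientGroup.mk_mul, QuotientGroup.mk_inv, hf, hPcl]
  have hswap : ∀ χ η : IrrCharacter G,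
      classInner (fun x : G => f (x : G ⧸ N) * (χ : G → ℂ) x) (η : G → ℂ)
        = conj (classInner (fun x : G => f (x : G ⧸ N) * (η : G → ℂ) x) (χ : G → ℂ)) := by
    intro χ η
    rw [classInner, classInner, map_mul, map_inv₀, map_natCast, map_sum]
    congr 1
    refine Finset.sum_congr rfl fun x _ => ?_
    rw [map_mul, map_mul, Complex.conj_conj, hfr]
    ring
  have hexp : ∀ η : IrrCharacter G, classInner fP (η : G → ℂ)
      = ∑ χ ∈ V, conj ((χ : G → ℂ) h) *
        classInner (fun x : G => f (x : G ⧸ N) * (χ : G → ℂ) x) (η : G → ℂ) := by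
    intro η
    rw [show fP = ∑ χ ∈ V, conj ((χ : G → ℂ) h) • fun x : G => f (x : G ⧸ N) * (χ : G → ℂ) x from
      funext fun x => by
        simp only [fP, P, Finset.mul_sum, Finset.sum_apply, Pi.smul_apply, smul_eq_mul]
        exact Finset.sum_congr rfl fun χ _ => by ring,
      classInner_sum_left]
    exact Finset.sum_congr rfl fun χ _ => classInner_smul_left _ _ _
  have hexpP : ∀ η : IrrCharacter G, classInner P (η : G → ℂ)
      = if η ∈ V then conj ((η : G → ℂ) h) else 0 := by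
    intro η
    rw [show P = ∑ χ ∈ V, conj ((χ : G → ℂ) h) • (χ : G → ℂ) from funext fun x => by
        simp only [P, Finset.sum_apply, Pi.smul_apply, smul_eq_mul]
        exact Finset.sum_congr rfl fun χ _ => mul_comm _ _,
      classInner_sum_left, Finset.sum_congr rfl fun χ _ => classInner_smul_left _ _ _]
    simp [classInner_irrCharacter]
  have heq : fP = P := by
    refine IsClassFunction.ext_classInner hfPcl hPcl fun η hη => ?_
    lift η to IrrCharacter G using hη
    rw [hexp, hexpP]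
    split_ifs with hm
    · rw [show ∑ χ ∈ V, conj ((χ : G → ℂ) h) *
            classInner (fun x : G => f (x : G ⧸ N) * (χ : G → ℂ) x) (η : G → ℂ)
          = ∑ χ : IrrCharacter G, conj ((χ : G → ℂ) h) *
            classInner (fun x : G => f (x : G ⧸ N) * (χ : G → ℂ) x) (η : G → ℂ) from
        Finset.sum_subset (Finset.subset_univ V) fun χ _ hχ => by
          rw [hswap, orth_mul N hm hχ hf, map_zero, mul_zero]]
      simp only [classInner, Finset.mul_sum]
      rw [Finset.sum_comm, Finset.sum_congr rfl (g := fun x => (Nat.card G : ℂ)⁻¹ *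
        ((if IsConj x h then (Nat.card (Subgroup.centralizer ({h} : Set G)) : ℂ) else 0)
          * conj ((η : G → ℂ) x))) fun x _ => ?_]
      · have hη' : ∀ x, (if IsConj x h then (Nat.card (Subgroup.centralizer ({h} : Set G)) : ℂ) else 0)
            * conj ((η : G → ℂ) x) = if IsConj x h then
              (Nat.card (Subgroup.centralizer ({h} : Set G)) : ℂ) * conj ((η : G → ℂ) h) else 0 := by
          intro x
          split_ifs with hx
          · rw [IsClassFunction.apply_eq_of_isConj (IsIrrCharacter.isClassFunction η.2) hx]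
          · rw [zero_mul]
        rw [← Finset.mul_sum, Finset.sum_congr rfl fun x _ => hη' x, ← Finset.sum_filter,
          Finset.sum_const, nsmul_eq_mul, ← Fintype.card_subtype, ← Nat.card_eq_fintype_card,
          ← mul_assoc, ← mul_assoc, mul_assoc ((Nat.card G : ℂ)⁻¹), ← Nat.cast_mul,
          card_conjugates_mul h, inv_mul_cancel₀ CfsgLib.Char.card_ne_zero, one_mul]
      · rw [← sum_irr_mul_conj x h, Finset.sum_mul, Finset.mul_sum]
        by_cases hx : IsConj (x : G ⧸ N) (h : G ⧸ N)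
        · simp only [hfdef, if_pos hx]
          exact Finset.sum_congr rfl fun χ _ => by ring
        · have h0 := sum_irr_mul_conj x h
          rw [if_neg fun e => hx ((QuotientGroup.mk' N).map_isConj e)] at h0
          simp only [hfdef, if_neg hx, zero_mul, mul_zero, Finset.sum_const_zero]
          rw [← Finset.mul_sum, ← Finset.sum_mul, h0, zero_mul, mul_zero]
    · exact Finset.sum_eq_zero fun χ hχ => by rw [orth_mul N hχ hm hf, mul_zero]
  have hg := congrFun heq g
  show P g = 0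
  rw [← hg]
  show f (g : G ⧸ N) * P g = 0
  simp only [hfdef, if_neg hgh, zero_mul]

/-- The square sum of the multiplicities over `θ`. -/
theorem sum_over_norm (θ : IrrCharacter N) :
    ∑ χ ∈ lying N θ, classInner (fun n : N => (χ : G → ℂ) n) (fun n : N => (χ : G → ℂ) n)
      = (Nat.card G : ℂ) / (Nat.card N : ℂ) := by
  set O : Finset (IrrCharacter N) := Finset.univ.image fun g : G =>
    (⟨conjG (θ : N → ℂ) g, IsIrrCharacter.conjG θ.2 g⟩ : IrrCharacter N) with hO
  have hinner : ∀ (φ : IrrCharacter N), φ ∈ O → ∀ χ : IrrCharacter G,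
      classInner (fun n : N => (χ : G → ℂ) n) (φ : N → ℂ)
        = classInner (fun n : N => (χ : G → ℂ) n) (θ : N → ℂ) := by
    intro φ hφ χ
    obtain ⟨g, -, rfl⟩ := Finset.mem_image.1 hφ
    show classInner _ (conjG (θ : N → ℂ) g) = _
    conv_lhs => rw [← conjG_coe (IsIrrCharacter.isClassFunction χ.2) g, classInner_conjG]
  have hexp : ∀ χ ∈ lying N θ,
      classInner (fun n : N => (χ : G → ℂ) n) (fun n : N => (χ : G → ℂ) n)
        = ∑ φ ∈ O, classInner (fun n : N => (χ : G → ℂ) n) (φ : N → ℂ)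
          * classInner (φ : N → ℂ) (fun n : N => (χ : G → ℂ) n) := by
    intro χ hχ
    rw [classInner_eq_sum_irr (IsCharacter.isClassFunction (resc N χ))]
    symm
    refine Finset.sum_subset (Finset.subset_univ O) fun φ _ hφ => ?_
    by_cases h0 : classInner (fun n : N => (χ : G → ℂ) n) (φ : N → ℂ) = 0
    · rw [h0, zero_mul]
    · obtain ⟨g, hg⟩ := Clifford.exists_conj_of_constituent N χ.2 θ.2 φ.2 ((mem_lying N).1 hχ) h0
      refine absurd (Finset.mem_image.2 ⟨g, Finset.mem_univ g, Subtype.ext ?_⟩) hφ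
      show conjG (θ : N → ℂ) g = (φ : N → ℂ)
      rw [hg, conjG_eq_comp]
      rfl
  rw [Finset.sum_congr rfl hexp, Finset.sum_comm]
  have hterm : ∀ φ ∈ O, ∑ χ ∈ lying N θ, classInner (fun n : N => (χ : G → ℂ) n) (φ : N → ℂ)
      * classInner (φ : N → ℂ) (fun n : N => (χ : G → ℂ) n)
      = classInner (indFun N (φ : N → ℂ)) (indFun N (φ : N → ℂ)) := by
    intro φ hφ
    rw [classInner_eq_sum_irr (indFun_isClassFunction N _), ← Finset.sum_subset
      (Finset.subset_univ (lying N θ)) fun χ _ hχ => ?_]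
    · refine Finset.sum_congr rfl fun χ _ => ?_
      rw [classInner_indFun N _ (IsIrrCharacter.isClassFunction χ.2),
        classInner_indFun_right N _ (IsIrrCharacter.isClassFunction χ.2), mul_comm]
    · rw [classInner_indFun_right N _ (IsIrrCharacter.isClassFunction χ.2), hinner φ hφ χ,
        not_not.1 (mt (mem_lying N).2 hχ), mul_zero]
  rw [Finset.sum_congr rfl hterm]
  have hnorm : ∀ φ ∈ O, classInner (indFun N (φ : N → ℂ)) (indFun N (φ : N → ℂ))
      = ((Finset.univ.filter fun g : G => (⟨conjG (θ : N → ℂ) g, IsIrrCharacter.conjG θ.2 g⟩ :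
          IrrCharacter N) = φ).card : ℂ) / (Nat.card N : ℂ) := by
    intro φ hφ
    obtain ⟨g₀, -, rfl⟩ := Finset.mem_image.1 hφ
    show classInner (indFun N (conjG (θ : N → ℂ) g₀)) (indFun N (conjG (θ : N → ℂ) g₀)) = _
    rw [indFun_conjG, classInner_indFun_irr θ.2 θ.2]
    congr 2
    rw [show (Finset.univ.filter fun g : G => (⟨conjG (θ : N → ℂ) g, IsIrrCharacter.conjG θ.2 g⟩ :
        IrrCharacter N) = ⟨conjG (θ : N → ℂ) g₀, IsIrrCharacter.conjG θ.2 g₀⟩)
        = Finset.univ.filter fun g : G => conjG (θ : N → ℂ) g = conjG (θ : N → ℂ) g₀ from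
      Finset.filter_congr fun g _ => Subtype.ext_iff, card_filter_conjG_eq]
    exact Nat.card_congr (Equiv.refl _)
  rw [Finset.sum_congr rfl hnorm, ← Finset.sum_div, ← Nat.cast_sum, ← Finset.card_eq_sum_card_image,
    Finset.card_univ, Nat.card_eq_fintype_card (α := G)]

/-- If the power map fixes only the trivial class of the quotient, exactly one character over a
fixed `θ` is fixed. -/
theorem exists_unique_fixed {k : ℕ} (hk : (Nat.card G).Coprime k)
    (hq : ∀ q : G ⧸ N, IsConj (q ^ k) q → q = 1) (θ : IrrCharacter N)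
    (hθ : ∀ n : N, (θ : N → ℂ) (n ^ k) = (θ : N → ℂ) n) :
    ∃ χ ∈ lying N θ, (∀ g : G, (χ : G → ℂ) (g ^ k) = (χ : G → ℂ) g) ∧
      ∀ χ' ∈ lying N θ, (∀ g : G, (χ' : G → ℂ) (g ^ k) = (χ' : G → ℂ) g) → χ' = χ := by
  have hfix : ∀ χ : IrrCharacter G, classInner (fun g => (χ : G → ℂ) (g ^ k)) (χ : G → ℂ)
      = if (∀ g : G, (χ : G → ℂ) (g ^ k) = (χ : G → ℂ) g) then 1 else 0 := by
    intro χ
    split_ifs with h
    · rw [show (fun g => (χ : G → ℂ) (g ^ k)) = (χ : G → ℂ) from funext h]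
      exact classInner_irr_self χ.2
    · exact classInner_irr_ne (IsIrrCharacter.comp_pow χ.2 k hk) χ.2 fun e => h (congrFun e)
  have hres : ∀ χ ∈ lying N θ, ∀ n : N, (χ : G → ℂ) ((n : G) ^ k) = (χ : G → ℂ) (n : G) := by
    intro χ hχ n
    have he := IsClassFunction.eq_sum_irr (IsCharacter.isClassFunction (resc N χ))
    have e1 := congrFun he (n ^ k)
    have e2 := congrFun he n
    simp only [Finset.sum_apply, Pi.smul_apply, smul_eq_mul, SubgroupClass.coe_pow] at e1 e2
    rw [e1, e2]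
    refine Finset.sum_congr rfl fun φ _ => ?_
    by_cases h0 : classInner (fun n : N => (χ : G → ℂ) n) (φ : N → ℂ) = 0
    · rw [h0, zero_mul, zero_mul]
    · obtain ⟨g, hg⟩ := Clifford.exists_conj_of_constituent N χ.2 θ.2 φ.2 ((mem_lying N).1 hχ) h0
      rw [hg]
      show _ * (θ : N → ℂ) ((MulAut.conjNormal g : MulAut N) (n ^ k)) = _ * (θ : N → ℂ) _
      rw [map_pow, hθ]
  have hcount : ((Finset.card ((lying N θ).filter fun χ : IrrCharacter G =>
      ∀ g : G, (χ : G → ℂ) (g ^ k) = (χ : G → ℂ) g)) : ℂ) = 1 := by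
    rw [← Finset.sum_boole, Finset.sum_congr rfl fun χ _ => (hfix χ).symm]
    simp only [classInner]
    rw [← Finset.mul_sum, Finset.sum_comm]
    have hg : ∀ g : G, ∑ χ ∈ lying N θ, (χ : G → ℂ) (g ^ k) * conj ((χ : G → ℂ) g)
        = if g ∈ N then ∑ χ ∈ lying N θ, (χ : G → ℂ) g * conj ((χ : G → ℂ) g) else 0 := by
      intro g
      split_ifs with hgN
      · exact Finset.sum_congr rfl fun χ hχ => by rw [hres χ hχ ⟨g, hgN⟩]
      · refine kernel_eq_zero N θ fun hc => hgN ?_
        rw [QuotientGroup.mk_pow] at hc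
        exact (QuotientGroup.eq_one_iff g).1 (hq _ hc)
    rw [Finset.sum_congr rfl fun g _ => hg g, ← Finset.sum_filter,
      Finset.sum_subtype (Finset.univ.filter fun g : G => g ∈ N) (p := fun g => g ∈ N)
        (fun g => by simp),
      Finset.sum_comm]
    have hn := sum_over_norm N θ
    simp only [classInner, ← Finset.mul_sum] at hn
    have hN0 : (Nat.card N : ℂ) ≠ 0 := Nat.cast_ne_zero.2 Nat.card_pos.ne'
    have hG0 : (Nat.card G : ℂ) ≠ 0 := Nat.cast_ne_zero.2 Nat.card_pos.ne'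
    rw [inv_mul_eq_iff_eq_mul₀ hN0, mul_div_cancel₀ _ hN0] at hn
    rw [hn, inv_mul_cancel₀ hG0]
  rw [Nat.cast_eq_one, Finset.card_eq_one] at hcount
  obtain ⟨χ, hχ⟩ := hcount
  have hmem := Finset.eq_singleton_iff_unique_mem.1 hχ
  obtain ⟨h1, h2⟩ := Finset.mem_filter.1 hmem.1
  exact ⟨χ, h1, h2, fun χ' h h' => hmem.2 χ' (Finset.mem_filter.2 ⟨h, h'⟩)⟩

/-- The condition on classes of the quotient. -/
theorem class_condition (hidx : Odd N.index) {k : ℕ}
    (hk₂ : ∀ g : G, Odd (orderOf g) → g ^ k = g⁻¹) (q : G ⧸ N) (hq : IsConj (q ^ k) q) : q = 1 := by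
  haveI : Fact (Nat.Prime 2) := ⟨Nat.prime_two⟩
  obtain ⟨g, rfl⟩ := QuotientGroup.mk_surjective q
  have hodd : Odd (Nat.card (G ⧸ N)) := hidx
  obtain ⟨w, y, -, hwy, -, hy, ⟨j, hj⟩, -, -⟩ := CfsgLib.Blocks.exists_isPPart Nat.prime_two g
  have hw : ((w : G) : G ⧸ N) = 1 := by
    have h1 : orderOf (w : G ⧸ N) ∣ 2 ^ j := hj ▸ orderOf_map_dvd (QuotientGroup.mk' N) w
    refine orderOf_eq_one_iff.1 (Nat.eq_one_of_dvd_coprimes ?_ h1 (orderOf_dvd_natCard _))
    exact Nat.Coprime.pow_left j (Nat.coprime_two_left.2 hodd)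
  have hgy : (g : G ⧸ N) = (y : G ⧸ N) := by rw [← hwy, QuotientGroup.mk_mul, hw, one_mul]
  rw [hgy, ← QuotientGroup.mk_pow, hk₂ y (Nat.not_even_iff_odd.1 (fun h => hy h.two_dvd)),
    QuotientGroup.mk_inv] at hq
  rw [hgy]
  exact CfsgLib.Blocks.eq_one_of_real_of_odd_card hodd hq.symm

/-- An extension of a fixed character can be twisted into a fixed extension. -/
theorem exists_fixed_of_extension (hidx : Odd N.index) {k : ℕ} (hk : (Nat.card G).Coprime k)
    (hk₂ : ∀ g : G, Odd (orderOf g) → g ^ k = g⁻¹) (θ : IrrCharacter N)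
    (hθ : ∀ n : N, (θ : N → ℂ) (n ^ k) = (θ : N → ℂ) n) (η : IrrCharacter G)
    (hη : ∀ n : N, (η : G → ℂ) n = (θ : N → ℂ) n) :
    ∃ χ : IrrCharacter G, (∀ n : N, (χ : G → ℂ) n = (θ : N → ℂ) n) ∧
      ∀ g : G, (χ : G → ℂ) (g ^ k) = (χ : G → ℂ) g := by
  haveI : Fact (Nat.Prime 2) := ⟨Nat.prime_two⟩
  obtain ⟨β, hβ1, hβ⟩ := CfsgLib.Blocks.exists_linear_of_extensions η
    ⟨_, IsIrrCharacter.comp_pow η.2 k hk⟩ θ hη fun n => by
      show (η : G → ℂ) ((n : G) ^ k) = _
      rw [← SubgroupClass.coe_pow, hη, hθ]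
  change ∀ g, (η : G → ℂ) (g ^ k) = (β g : ℂ) * (η : G → ℂ) g at hβ
  have hβidx : ∀ g : G, β g ^ N.index = 1 := fun g => by
    rw [← map_pow]
    exact hβ1 ⟨g ^ N.index, Subgroup.pow_index_mem N g⟩
  obtain ⟨m, hm⟩ := hidx
  set γ : G →* ℂˣ := β ^ (m + 1) with hγdef
  have hγ : ∀ g, γ g * γ g = β g := fun g => by
    rw [hγdef, MonoidHom.pow_apply, ← pow_add,
      show m + 1 + (m + 1) = N.index + 1 by omega, pow_succ, hβidx, one_mul]
  have hγN : ∀ n : N, γ n = 1 := fun n => by rw [hγdef, MonoidHom.pow_apply, hβ1, one_pow]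
  have hγk : ∀ g, γ g ^ k = (γ g)⁻¹ := by
    intro g
    obtain ⟨w, y, -, hwy, -, hy, ⟨j, hj⟩, -, -⟩ := CfsgLib.Blocks.exists_isPPart Nat.prime_two g
    have hw : γ w = 1 := by
      refine orderOf_eq_one_iff.1 (Nat.eq_one_of_dvd_coprimes
        (Nat.Coprime.pow_left j (Nat.coprime_two_left.2 (⟨m, hm⟩ : Odd N.index)))
        (hj ▸ orderOf_map_dvd γ w) (orderOf_dvd_of_pow_eq_one ?_))
      rw [hγdef, MonoidHom.pow_apply, ← pow_mul, mul_comm, pow_mul, hβidx, one_pow]
    rw [← hwy, map_mul, hw, one_mul, ← map_pow,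
      hk₂ y (Nat.not_even_iff_odd.1 (fun h => hy h.two_dvd)), map_inv]
  refine ⟨⟨_, CfsgLib.Blocks.isIrrCharacter_hom_mul γ η⟩, fun n => ?_, fun g => ?_⟩
  · show (γ n : ℂ) * (η : G → ℂ) n = _
    rw [hγN, Units.val_one, one_mul, hη]
  · show (γ (g ^ k) : ℂ) * (η : G → ℂ) (g ^ k) = (γ g : ℂ) * (η : G → ℂ) g
    rw [map_pow, hγk, hβ, ← mul_assoc, ← Units.val_mul, ← hγ g, inv_mul_cancel_left]

theorem lying_of_extension {θ : IrrCharacter N} {χ : IrrCharacter G}
    (h : ∀ n : N, (χ : G → ℂ) n = (θ : N → ℂ) n) : χ ∈ lying N θ := by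
  rw [mem_lying, funext h, classInner_irr_self θ.2]
  exact one_ne_zero

omit [Fintype N] in
/-- An invariant fixed character extends when the quotient is a group of prime power order. -/
theorem exists_extension_pgroup {q : ℕ} [Fact q.Prime] : ∀ (n : ℕ) (G : Type u) [Group G]
    [Fintype G] (N : Subgroup G) [N.Normal] [Fintype N] (k : ℕ), N.index = q ^ n →
    Odd N.index → (Nat.card G).Coprime k → (∀ g : G, Odd (orderOf g) → g ^ k = g⁻¹) →
    ∀ θ : IrrCharacter N, (∀ x : N, (θ : N → ℂ) (x ^ k) = (θ : N → ℂ) x) →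
    (∀ (g : G) (x : N), (θ : N → ℂ) (MulAut.conjNormal g x) = (θ : N → ℂ) x) →
    ∃ χ : IrrCharacter G, (∀ x : N, (χ : G → ℂ) x = (θ : N → ℂ) x) ∧
      ∀ g : G, (χ : G → ℂ) (g ^ k) = (χ : G → ℂ) g := by
  intro n
  induction n with
  | zero =>
    intro G _ _ N _ _ k hidx _ _ _ θ hθ _
    rw [pow_zero, Subgroup.index_eq_one] at hidx
    subst hidx
    refine ⟨⟨_, IsIrrCharacter.comp_equiv θ.2 Subgroup.topEquiv.symm⟩, fun x => ?_, fun g => ?_⟩
    · exact congrArg (θ : (⊤ : Subgroup G) → ℂ) (Subtype.ext rfl)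
    · show (θ : (⊤ : Subgroup G) → ℂ) (Subgroup.topEquiv.symm (g ^ k)) = _
      rw [map_pow, hθ]
      rfl
  | succ n ih =>
    intro G _ _ N _ _ k hidx hodd hk hk₂ θ hθ hinv
    have hcard : Nat.card (G ⧸ N) = q ^ (n + 1) := hidx
    obtain ⟨L', hL'⟩ := Sylow.exists_subgroup_card_pow_prime q
      (show q ^ n ∣ Nat.card (G ⧸ N) by rw [hcard]; exact pow_dvd_pow q n.le_succ)
    have hq := (Fact.out : q.Prime)
    have hL'idx : L'.index = q := by
      have e := L'.card_mul_index
      rw [hL', hcard, pow_succ] at e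
      exact Nat.eq_of_mul_eq_mul_left (pow_pos hq.pos n) e
    haveI : L'.Normal := Subgroup.normal_of_index_eq_minFac_card (by
      rw [hL'idx, hcard, Nat.pow_minFac (Nat.succ_ne_zero n), hq.minFac_eq])
    set L : Subgroup G := L'.comap (QuotientGroup.mk' N) with hL
    have hNL : N ≤ L := fun x hx => by
      rw [hL, Subgroup.mem_comap, show QuotientGroup.mk' N x = 1 from (QuotientGroup.eq_one_iff x).2 hx]
      exact L'.one_mem
    have hLidx : L.index = q := by
      rw [hL, Subgroup.index_comap_of_surjective _ (QuotientGroup.mk'_surjective N), hL'idx]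
    haveI : Fintype L := Fintype.ofFinite L
    set N' : Subgroup L := N.subgroupOf L with hN'
    haveI : Fintype N' := Fintype.ofFinite N'
    have hN'idx : N'.index = q ^ n := by
      have e := Subgroup.relIndex_mul_index hNL
      rw [hLidx, hidx, pow_succ] at e
      exact Nat.eq_of_mul_eq_mul_right hq.pos e
    let e : N' ≃* N := Subgroup.subgroupOfEquivOfLe hNL
    let θ' : IrrCharacter N' := ⟨(θ : N → ℂ) ∘ e, IsIrrCharacter.comp_equiv θ.2 e⟩
    have hoddL : Odd N'.index :=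
      hodd.of_dvd_nat (hN'idx ▸ hidx ▸ pow_dvd_pow q n.le_succ)
    have hkL : (Nat.card L).Coprime k := hk.coprime_dvd_left L.card_subgroup_dvd_card
    have hk₂L : ∀ x : L, Odd (orderOf x) → x ^ k = x⁻¹ := fun x hx =>
      Subtype.ext (by
        rw [SubgroupClass.coe_pow, Subgroup.coe_inv]
        exact hk₂ _ (by rwa [Subgroup.orderOf_coe]))
    have hθ' : ∀ x : N', (θ' : N' → ℂ) (x ^ k) = (θ' : N' → ℂ) x := fun x => by
      show (θ : N → ℂ) (e (x ^ k)) = _
      rw [map_pow, hθ]; rfl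
    obtain ⟨χL, hχL, hχLk⟩ := ih L N' k hN'idx hoddL hkL hk₂L θ' hθ' fun g x => by
      show (θ : N → ℂ) (e _) = (θ : N → ℂ) (e x)
      rw [← hinv (g : G) (e x)]
      exact congrArg _ (Subtype.ext rfl)
    obtain ⟨c, -, -, huniq⟩ := exists_unique_fixed N' hkL (class_condition N' hoddL hk₂L) θ' hθ'
    have hχc := huniq χL (lying_of_extension N' hχL) hχLk
    have hLinv : ∀ (g : G) (x : L), (χL : L → ℂ) (MulAut.conjNormal g x) = (χL : L → ℂ) x := by
      intro g
      let χg : IrrCharacter L := ⟨_, IsIrrCharacter.comp_equiv χL.2 (MulAut.conjNormal g : MulAut L)⟩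
      have h1 : χg = χL := by
        refine (huniq χg (lying_of_extension N' fun x => ?_) fun x => ?_).trans hχc.symm
        · have hmem : ((MulAut.conjNormal g : MulAut L) (x : L) : G) ∈ N := by
            rw [MulAut.conjNormal_apply]
            exact Subgroup.Normal.conj_mem (inferInstance : N.Normal) _ x.2 g
          show (χL : L → ℂ) ((⟨(MulAut.conjNormal g : MulAut L) (x : L), hmem⟩ : N') : L) = _
          rw [hχL]
          show (θ : N → ℂ) (e _) = (θ : N → ℂ) (e x)
          rw [← hinv g (e x)]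
          exact congrArg _ (Subtype.ext rfl)
        · show (χL : L → ℂ) ((MulAut.conjNormal g : MulAut L) (x ^ k)) = _
          rw [map_pow, hχLk]; rfl
      exact fun x => congrFun (congrArg Subtype.val h1) x
    obtain ⟨x₀, hx₀⟩ : ∃ x : G, x ∉ L := by
      by_contra h
      push Not at h
      rw [(Subgroup.eq_top_iff' L).2 h, Subgroup.index_top] at hLidx
      exact hq.one_lt.ne hLidx
    have hgen : ∀ g : G, ∃ (a : L) (i : ℤ), g = a * x₀ ^ i := by
      intro g
      obtain ⟨i, hi⟩ := Subgroup.mem_zpowers_iff.1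
        (mem_zpowers_of_prime_card (G := G ⧸ L) (g := (x₀ : G ⧸ L)) (g' := (g : G ⧸ L))
          (p := q) hLidx (fun e => hx₀ ((QuotientGroup.eq_one_iff x₀).1 e)))
      refine ⟨⟨g * (x₀ ^ i)⁻¹, ?_⟩, i, (inv_mul_cancel_right g (x₀ ^ i)).symm⟩
      rw [← QuotientGroup.eq_one_iff, QuotientGroup.mk_mul, QuotientGroup.mk_inv,
        QuotientGroup.mk_zpow, hi, mul_inv_cancel]
    obtain ⟨d, ρ, hρ, hρe⟩ := χL.2
    haveI := hρ
    obtain ⟨σ, hσ⟩ := ProjExt.exists_extension_of_zpowers ρ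
      (fun g x => by rw [hρe]; exact hLinv g x) x₀ hgen
    obtain ⟨χ₀, hχ₀, hres₀⟩ := ProjExt.exists_character_of_extension ρ σ hσ
    refine exists_fixed_of_extension N hodd hk hk₂ θ hθ ⟨χ₀, hχ₀⟩ fun x => ?_
    show χ₀ ((⟨(x : G), hNL x.2⟩ : L) : G) = _
    rw [hres₀, hρe]
    exact (hχL ⟨⟨(x : G), hNL x.2⟩, x.2⟩).trans (congrArg _ (Subtype.ext rfl))

/-- An invariant fixed character of a normal subgroup of odd index extends to a fixed character. -/
theorem exists_fixed_extension (hidx : Odd N.index) {k : ℕ} (hk : (Nat.card G).Coprime k)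
    (hk₂ : ∀ g : G, Odd (orderOf g) → g ^ k = g⁻¹) (θ : IrrCharacter N)
    (hθ : ∀ n : N, (θ : N → ℂ) (n ^ k) = (θ : N → ℂ) n)
    (hinv : ∀ (g : G) (x : N), (θ : N → ℂ) (MulAut.conjNormal g x) = (θ : N → ℂ) x) :
    ∃ χ : IrrCharacter G, (∀ n : N, (χ : G → ℂ) n = (θ : N → ℂ) n) ∧
      ∀ g : G, (χ : G → ℂ) (g ^ k) = (χ : G → ℂ) g := by
  obtain ⟨d, ρ, hρ, hρe⟩ := id θ.2
  haveI := hρ
  obtain ⟨σ, hσ⟩ := ProjExt.exists_extension_of_sylow ρ
    (fun g x => by rw [hρe]; exact hinv g x) fun p hp => by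
    haveI : Fact p.Prime := ⟨hp⟩
    set Q : Sylow p (G ⧸ N) := default
    set H : Subgroup G := (Q : Subgroup (G ⧸ N)).comap (QuotientGroup.mk' N) with hH
    have hNH : N ≤ H := fun x hx => by
      rw [hH, Subgroup.mem_comap, show QuotientGroup.mk' N x = 1 from (QuotientGroup.eq_one_iff x).2 hx]
      exact Subgroup.one_mem _
    have hHidx : H.index = (Q : Subgroup (G ⧸ N)).index := by
      rw [hH, Subgroup.index_comap_of_surjective _ (QuotientGroup.mk'_surjective N)]
    haveI : Fintype H := Fintype.ofFinite H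
    set N' : Subgroup H := N.subgroupOf H with hN'
    haveI : Fintype N' := Fintype.ofFinite N'
    obtain ⟨j, hj⟩ := IsPGroup.iff_card.1 Q.2
    have hN'idx : N'.index = p ^ j := by
      have e := Subgroup.relIndex_mul_index hNH
      rw [hHidx] at e
      have e' := (Q : Subgroup (G ⧸ N)).card_mul_index
      rw [hj, ← Subgroup.index_eq_card] at e'
      exact Nat.eq_of_mul_eq_mul_right (Nat.pos_of_ne_zero Subgroup.index_ne_zero_of_finite)
        (e.trans e'.symm)
    let e : N' ≃* N := Subgroup.subgroupOfEquivOfLe hNH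
    let θ' : IrrCharacter N' := ⟨(θ : N → ℂ) ∘ e, IsIrrCharacter.comp_equiv θ.2 e⟩
    have hodd' : Odd N'.index := hidx.of_dvd_nat ⟨H.index, (Subgroup.relIndex_mul_index hNH).symm⟩
    obtain ⟨χH, hχH, -⟩ := exists_extension_pgroup (q := p) j H N' k hN'idx hodd'
      (hk.coprime_dvd_left H.card_subgroup_dvd_card)
      (fun x hx => Subtype.ext (by
        rw [SubgroupClass.coe_pow, Subgroup.coe_inv]
        exact hk₂ _ (by rwa [Subgroup.orderOf_coe])))
      θ' (fun x => by show (θ : N → ℂ) (e (x ^ k)) = _; rw [map_pow, hθ]; rfl)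
      fun g x => by
        show (θ : N → ℂ) (e _) = (θ : N → ℂ) (e x)
        rw [← hinv (g : G) (e x)]
        exact congrArg _ (Subtype.ext rfl)
    obtain ⟨m, π, -, hπ⟩ := χH.2
    refine ⟨H, hNH, m, π, hHidx ▸ Q.not_dvd_index, fun x => ?_⟩
    rw [hπ, hρe]
    exact (hχH ⟨⟨(x : G), hNH x.2⟩, x.2⟩).trans (congrArg _ (Subtype.ext rfl))
  obtain ⟨χ₀, hχ₀, hres₀⟩ := ProjExt.exists_character_of_extension ρ σ hσ
  exact exists_fixed_of_extension N hidx hk hk₂ θ hθ ⟨χ₀, hχ₀⟩ fun x => by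
    show χ₀ (x : G) = _
    rw [hres₀, hρe]

end CfsgLib.CharDeep.Galois.OddFixed
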